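import Groth.Agent.QuotLib.Pointed
import Mathlib.GroupTheory.GroupAction.Quotient
import Mathlib.Algebra.BigOperators.Finprod
import Mathlib.CategoryTheory.Conj
import Mathlib.Algebra.BigOperators.Field
import Groth.Prelude.Def_ChGrp

/-!
# The mass of the groupoid of torsors with sections

When every torsor over `T` has a section, the fibre of `[X/G]` over `T` has the mass `#X(T) / #G(T)`.
-/

set_option autoImplicit false
set_option backward.isDefEq.respectTransparency false
set_option backward.isDefEq.respectTransparency.types false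

universe u

open CategoryTheory CategoryTheory.Limits MonoidalCategory CartesianMonoidalCategory MonObj GrpObj AlgebraicGeometry

namespace Groth.Agent.StCntLib

open Groth.Agent.GrpSchLib Groth.Agent.QuotLib AlgSt

variable {S : Scheme.{u}} {K : Precoverage Scheme.{u}} [K.HasIsos] {G : Over S} [GrpObj G] {X : Over S}
  {aX : AlgGrp.Action G X} {T : Over S}

variable (aX T) in
/-- Points of `G` act on points of `X`. -/
@[reducible]
noncomputable def ptsMulAction : MulAction (T ⟶ G) (T ⟶ X) where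
  smul g x := lift g x ≫ aX.act
  one_smul x := AlgGrp.Action.lift_one_act aX x
  mul_smul g g' x := AlgGrp.Action.lift_mul_act aX g g' x

variable (K aX) in
/-- The trivial torsor as an object of the fibre. -/
noncomputable def obj (x : T ⟶ X) : (QuotObj.forget K G aX).Fiber T :=
  Functor.Fiber.mk (p := QuotObj.forget K G aX) (a := triv K G aX x) rfl

theorem base_eq {x x' : T ⟶ X} (i : obj K aX x ⟶ obj K aX x') :
    (i.1 : triv K G aX x ⟶ triv K G aX x').base = 𝟙 T := by
  have := i.2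
  have h := IsHomLift.fac' (QuotObj.forget K G aX) (𝟙 T) i.1
  exact h.trans (by simp; rfl)

/-- The group coordinate of an isomorphism of trivial torsors. -/
noncomputable def crd {x x' : T ⟶ X} (i : obj K aX x ⟶ obj K aX x') : T ⟶ G :=
  sec G T ≫ (i.1 : triv K G aX x ⟶ triv K G aX x').top ≫ fst G T

theorem crd_spec {x x' : T ⟶ X} (i : obj K aX x ⟶ obj K aX x') :
    lift (crd i) x' ≫ aX.act = x ∧ (i.1 : triv K G aX x ⟶ triv K G aX x').top =
      lift (fst G T * (snd G T ≫ crd i)) (snd G T) := by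
  obtain ⟨g, hg, htop⟩ := (hom_triv_iff (K := K) (aX := aX) (𝟙 T) x x').1 i.1 (base_eq i)
  rw [Category.id_comp] at hg
  rw [Category.comp_id] at htop
  have : crd i = g := by
    rw [crd, htop, lift_fst, sec, comp_mul, lift_fst, lift_snd_assoc, Category.id_comp, _root_.one_mul]
  rw [this]
  exact ⟨hg, htop⟩

theorem crd_injective {x x' : T ⟶ X} : Function.Injective (crd (K := K) (aX := aX) (x := x) (x' := x')) :=
  fun i j h => Functor.Fiber.hom_ext (QuotObj.hom_ext ((base_eq i).trans (base_eq j).symm)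
    ((crd_spec i).2.trans (by rw [h]; exact (crd_spec j).2.symm)))

theorem exists_crd {x x' : T ⟶ X} (g : T ⟶ G) (hg : lift g x' ≫ aX.act = x) :
    ∃ i : obj K aX x ⟶ obj K aX x', crd i = g := by
  obtain ⟨h, hb, htop⟩ := (hom_triv_iff (K := K) (aX := aX) (𝟙 T) x x').2 g (by rw [Category.id_comp]; exact hg)
  refine ⟨⟨h, IsHomLift.of_fac' _ _ _ rfl rfl (by
    show h.base = _; rw [hb]; simp; rfl)⟩, ?_⟩
  show sec G T ≫ h.top ≫ fst G T = g
  rw [htop, lift_fst, sec, comp_mul, lift_fst, lift_snd_assoc, Category.id_comp, _root_.one_mul]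

theorem crd_id (x : T ⟶ X) : crd (𝟙 (obj K aX x)) = 1 := by
  show sec G T ≫ 𝟙 (G ⊗ T) ≫ fst G T = 1
  rw [Category.id_comp, sec, lift_fst]

theorem crd_comp {x x' x'' : T ⟶ X} (i : obj K aX x ⟶ obj K aX x') (j : obj K aX x' ⟶ obj K aX x'') :
    crd (i ≫ j) = crd i * crd j := by
  show sec G T ≫ ((i.1 : triv K G aX x ⟶ triv K G aX x').top ≫ (j.1 : triv K G aX x' ⟶ triv K G aX x'').top) ≫ fst G T = _
  rw [(crd_spec i).2, (crd_spec j).2, Category.assoc, lift_fst, comp_mul, lift_fst, lift_snd_assoc, sec, comp_mul,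
    comp_mul, lift_fst, lift_snd_assoc, Category.id_comp, _root_.one_mul, lift_snd_assoc, Category.id_comp]

/-- Automorphisms of a trivial torsor form the stabiliser. -/
theorem nonempty_aut_equiv (x : T ⟶ X) :
    letI := ptsMulAction aX T
    Nonempty (Aut (obj K aX x) ≃ MulAction.stabilizer (T ⟶ G) x) := by
  letI := ptsMulAction aX T
  refine ⟨Equiv.ofBijective (fun i => ⟨crd i.hom, (crd_spec i.hom).1⟩)
    ⟨fun i j h => Iso.ext (crd_injective (congrArg Subtype.val h)), fun g => ?_⟩⟩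
  obtain ⟨i, hi⟩ := exists_crd (K := K) g.1 g.2
  obtain ⟨j, hj⟩ := exists_crd (K := K) g.1⁻¹ (inv_mem g.2)
  refine ⟨⟨i, j, crd_injective ?_, crd_injective ?_⟩, Subtype.ext hi⟩
  · rw [crd_comp, crd_id, hi, hj, mul_inv_cancel]
  · rw [crd_comp, crd_id, hi, hj, inv_mul_cancel]

/-- The mass of the fibre. -/
theorem count [Finite (T ⟶ G)] [Finite (T ⟶ X)]
    (hsec : ∀ A : (QuotObj.forget K G aX).Fiber T, ∃ t : T ⟶ A.1.P, t ≫ A.1.π = eqToHom A.2.symm) :
    Finite (Quotient (isIsomorphicSetoid ((QuotObj.forget K G aX).Fiber T))) ∧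
      (∀ A : (QuotObj.forget K G aX).Fiber T, Finite (Aut A)) ∧
      ∑ᶠ c : Quotient (isIsomorphicSetoid ((QuotObj.forget K G aX).Fiber T)), ((Nat.card (Aut c.out) : ℚ))⁻¹ =
        (Nat.card (T ⟶ X) : ℚ) / (Nat.card (T ⟶ G) : ℚ) := by
  classical
  letI := ptsMulAction aX T
  have hsec_obj : ∀ x : T ⟶ X, sec G T ≫ (obj K aX x).1.π = eqToHom (obj K aX x).2.symm := fun x =>
    (lift_snd _ _).trans (eqToHom_refl _ _).symm
  have hiso : ∀ x x' : T ⟶ X, Nonempty (obj K aX x ≅ obj K aX x') ↔ x' ∈ MulAction.orbit (T ⟶ G) x := fun x x' => by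
    refine (Pointed.nonempty_iso_iff (triv K G aX x) (triv K G aX x') rfl rfl (sec G T) (sec G T)
      (hsec_obj x) (hsec_obj x')).trans ?_
    erw [sec_φ, sec_φ]
    exact Iff.rfl
  let Φ : MulAction.orbitRel.Quotient (T ⟶ G) (T ⟶ X) →
      Quotient (isIsomorphicSetoid ((QuotObj.forget K G aX).Fiber T)) :=
    Quotient.lift (fun x => Quotient.mk _ (obj K aX x)) (fun x x' h => Quotient.sound ((hiso x x').2
      (MulAction.mem_orbit_symm.1 (MulAction.orbitRel_apply.1 h))))
  have hΦ : Function.Bijective Φ := by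
    refine ⟨fun a b => Quotient.inductionOn₂ a b fun x x' h => Quotient.sound
      (MulAction.orbitRel_apply.2 (MulAction.mem_orbit_symm.1 ((hiso x x').1 (Quotient.exact h)))), fun c => ?_⟩
    induction c using Quotient.inductionOn with
    | _ A =>
      obtain ⟨t, ht⟩ := hsec A
      let x : T ⟶ X := t ≫ A.1.φ
      have hx : lift (1 : T ⟶ G) (sec G T ≫ (triv K G aX x).φ) ≫ aX.act = x := by
        rw [show sec G T ≫ (triv K G aX x).φ = x from sec_φ x]
        exact AlgGrp.Action.lift_one_act aX _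
      exact ⟨Quotient.mk _ x, Quotient.sound ((Pointed.nonempty_iso_iff (triv K G aX x) A.1
        rfl A.2 (sec G T) t (hsec_obj x) ht).2 ⟨1, hx⟩)⟩
  have hfin : ∀ A : (QuotObj.forget K G aX).Fiber T, Finite (Aut A) := fun A => by
    obtain ⟨⟨a⟩, ha⟩ := hΦ.2 (Quotient.mk _ A)
    obtain ⟨e⟩ := Quotient.exact ha
    obtain ⟨e'⟩ := nonempty_aut_equiv (K := K) (aX := aX) a
    exact Finite.of_equiv _ (e'.symm.trans e.conjAut.toEquiv)
  refine ⟨Finite.of_surjective Φ hΦ.2, hfin, ?_⟩
  rw [← finsum_comp Φ hΦ]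
  haveI := Fintype.ofFinite (T ⟶ G)
  haveI := Fintype.ofFinite (T ⟶ X)
  haveI := Fintype.ofFinite (MulAction.orbitRel.Quotient (T ⟶ G) (T ⟶ X))
  have hG : (Nat.card (T ⟶ G) : ℚ) ≠ 0 := Nat.cast_ne_zero.2 Nat.card_pos.ne'
  rw [finsum_eq_sum_of_fintype, Nat.card_congr (MulAction.selfEquivSigmaOrbits (T ⟶ G) (T ⟶ X)), Nat.card_sigma,
    Nat.cast_sum, Finset.sum_div]
  refine Finset.sum_congr rfl fun q _ => ?_
  rw [show Nat.card (Aut (Φ q).out) = Nat.card (MulAction.stabilizer (T ⟶ G) q.out) from ?_]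
  · have h := MulAction.card_orbit_mul_card_stabilizer_eq_card_group (T ⟶ G) q.out
    rw [← Nat.card_eq_fintype_card, ← Nat.card_eq_fintype_card, ← Nat.card_eq_fintype_card] at h
    have hs : (Nat.card (MulAction.stabilizer (T ⟶ G) q.out) : ℚ) ≠ 0 := Nat.cast_ne_zero.2 Nat.card_pos.ne'
    rw [← h] at hG ⊢
    push_cast at hG ⊢
    field_simp
    exact (div_self (left_ne_zero_of_mul hG)).symm
  · obtain ⟨e'⟩ := nonempty_aut_equiv (K := K) (aX := aX) q.out
    have hq : Φ q = Quotient.mk _ (obj K aX q.out) := (congrArg Φ (Quotient.out_eq q).symm).trans rfl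

    obtain ⟨e⟩ := Quotient.exact ((Quotient.out_eq (Φ q)).trans hq)
    rw [Nat.card_congr e.conjAut.toEquiv, Nat.card_congr e']

end Groth.Agent.StCntLib
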