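import Groth.Agent.AVFrobLib.Exist
import Groth.Agent.ZetaLib.PointsOfExt
import Groth.Agent.H23.QCCrit
import Groth.Agent.S3934
import Groth.Prelude.Def_GalTw

/-!
# Geometric points over a finite field and the Frobenius

The Frobenius is natural in the scheme and acts on geometric points as the Galois automorphism; fixed points
are rational, and by Lang every point of a connected group is a coboundary.
-/

noncomputable section

universe u

set_option backward.isDefEq.respectTransparency false
set_option backward.isDefEq.respectTransparency.types false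

open CategoryTheory CategoryTheory.Limits MonoidalCategory CartesianMonoidalCategory MonObj GrpObj AlgebraicGeometry

namespace Groth.Agent.StCntLib

open Groth.Agent

variable {k : Type u} [Field k] [Finite k]

local notation "T₀" => Over.mk (𝟙 (Spec (CommRingCat.of k)))
local notation "Tb" => SGA7.pt (K := k) (AlgebraicClosure k)

variable (k) in
/-- The structure map of the geometric point. -/
def toPt : Tb ⟶ T₀ := (Over.mkIdTerminal (X := Spec (CommRingCat.of k))).from _

/-- The natural Frobenius and the arithmetic Frobenius agree on geometric points. -/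
theorem exists_frob : ∃ (F : ∀ Y : Over (Spec (CommRingCat.of k)), Y ⟶ Y)
    (σ : AlgebraicClosure k ≃ₐ[k] AlgebraicClosure k),
    (∀ {Y Z : Over (Spec (CommRingCat.of k))} (f : Y ⟶ Z), F Y ≫ f = f ≫ F Z) ∧
      (∀ Y, WeilLib.IsPowMap (F Y).left (Nat.card k)) ∧ (∀ a, σ a = a ^ Nat.card k) ∧
      SGA7.specAut σ = F Tb := by
  haveI := Fintype.ofFinite k
  obtain ⟨p, hp⟩ := CharP.exists k
  obtain ⟨e, hprime, he⟩ := FiniteField.card k p
  haveI : Fact p.Prime := ⟨hprime⟩
  haveI : CharP (CommRingCat.of k) p := hp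
  haveI : CharP (CommRingCat.of (AlgebraicClosure k)) p :=
    charP_of_injective_algebraMap (algebraMap k (AlgebraicClosure k)).injective p
  haveI hS : ∀ Y : Over (Spec (CommRingCat.of k)), FrobSch.IsCharP Y.left p := fun Y => FrobSch.IsCharP.of_hom Y.hom p
  have hid : AVFrobLib.frobIter p (Spec (CommRingCat.of k)) e = 𝟙 _ := by
    rw [AVFrobLib.frobIter_spec, ← Spec.map_id]
    congr 1
    ext x
    show iterateFrobenius k p e x = x
    rw [iterateFrobenius_def, ← he, FiniteField.pow_card]
  let F : ∀ Y : Over (Spec (CommRingCat.of k)), Y ⟶ Y := fun Y => Over.homMk (AVFrobLib.frobIter p Y.left e) (by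
    rw [AVFrobLib.frobIter_comp, hid, Category.comp_id])
  refine ⟨F, FiniteField.frobeniusAlgEquivOfAlgebraic k (AlgebraicClosure k),
    fun f => Over.OverMorphism.ext (AVFrobLib.frobIter_comp p f.left e), fun Y => ?_, fun a => ?_, ?_⟩
  · rw [Nat.card_eq_fintype_card, he]
    exact AVFrobLib.isPowMap_frobIter p Y.left e
  · rw [Nat.card_eq_fintype_card]
    rfl
  · refine Over.OverMorphism.ext ?_
    show Spec.map _ = AVFrobLib.frobIter p (Spec (CommRingCat.of (AlgebraicClosure k))) e
    rw [AVFrobLib.frobIter_spec]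
    congr 1
    ext a
    show FiniteField.frobeniusAlgEquivOfAlgebraic k (AlgebraicClosure k) a = iterateFrobenius _ p e a
    rw [iterateFrobenius_def, ← he]
    rfl

/-- A geometric point fixed by the Frobenius is rational. -/
theorem exists_rat_of_fixed {P : Over (Spec (CommRingCat.of k))} (y : Tb ⟶ P)
    (σ : AlgebraicClosure k ≃ₐ[k] AlgebraicClosure k) (hσ : ∀ a, σ a = a ^ Nat.card k)
    (h : SGA7.specAut σ ≫ y = y) : ∃ y₀ : T₀ ⟶ P, toPt k ≫ y₀ = y := by
  haveI := Fintype.ofFinite k
  let K := AlgebraicClosure k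
  obtain ⟨x, φ, hy⟩ : ∃ (x : P.left) (φ : P.left.residueField x ⟶ CommRingCat.of K),
      y.left = Spec.map φ ≫ P.left.fromSpecResidueField x :=
    ⟨_, _, ((Scheme.SpecToEquivOfField K P.left).symm_apply_apply y.left).symm⟩
  have hb : φ.hom.comp (VarDim.resHom P.hom x) = algebraMap k K := by
    have h1 := Over.w y
    rw [hy, Category.assoc, WeilLib.fromSpecResidueField_comp, ← Spec.map_comp] at h1
    exact congrArg CommRingCat.Hom.hom (Spec.map_injective h1)
  have hfix : ∀ a, φ.hom a ^ Nat.card k = φ.hom a := by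
    have h1 : Spec.map (CommRingCat.ofHom (σ : K →+* K)) ≫ y.left = y.left := congrArg (fun m => m.left) h
    rw [hy] at h1
    have h2 : Scheme.SpecToEquivOfField K P.left
          (Spec.map (φ ≫ CommRingCat.ofHom (σ : K →+* K)) ≫ P.left.fromSpecResidueField x) =
        Scheme.SpecToEquivOfField K P.left (Spec.map φ ≫ P.left.fromSpecResidueField x) := by
      rw [Spec.map_comp, Category.assoc]
      exact congrArg _ h1
    rw [show Spec.map (φ ≫ CommRingCat.ofHom (σ : K →+* K)) ≫ P.left.fromSpecResidueField x =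
        (Scheme.SpecToEquivOfField K P.left).symm ⟨x, φ ≫ CommRingCat.ofHom (σ : K →+* K)⟩ from rfl,
      show Spec.map φ ≫ P.left.fromSpecResidueField x = (Scheme.SpecToEquivOfField K P.left).symm ⟨x, φ⟩ from rfl,
      Equiv.apply_symm_apply, Equiv.apply_symm_apply] at h2
    intro a
    have h3 := congrArg (fun m => m.hom a) (eq_of_heq (Sigma.mk.inj h2).2)
    exact (hσ _).symm.trans h3
  have hr : ∀ a, φ.hom a ∈ (algebraMap k K).range := by
    intro a
    classical
    by_contra hno
    have hP := FiniteField.X_pow_card_sub_X_ne_zero K (Finite.one_lt_card (α := k))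
    have hsub : insert (φ.hom a) (Finset.univ.image (algebraMap k K)) ⊆
        (Polynomial.X ^ Nat.card k - Polynomial.X : Polynomial K).roots.toFinset := by
      intro d hd
      rw [Multiset.mem_toFinset, Polynomial.mem_roots hP, Polynomial.IsRoot.def]
      simp only [Polynomial.eval_sub, Polynomial.eval_pow, Polynomial.eval_X, sub_eq_zero]
      rcases Finset.mem_insert.1 hd with rfl | hd
      · exact hfix a
      · obtain ⟨b, -, rfl⟩ := Finset.mem_image.1 hd
        rw [← map_pow, Nat.card_eq_fintype_card, FiniteField.pow_card]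
    have h1 := (Finset.card_le_card hsub).trans
      ((Multiset.toFinset_card_le _).trans (Polynomial.card_roots' _))
    rw [FiniteField.X_pow_card_sub_X_natDegree_eq K (Finite.one_lt_card (α := k)),
      Finset.card_insert_of_notMem (by simpa [RingHom.mem_range, eq_comm] using hno),
      Finset.card_image_of_injective _ (algebraMap k K).injective, Finset.card_univ,
      Nat.card_eq_fintype_card] at h1
    omega
  let e := RingEquiv.ofBijective (algebraMap k K).rangeRestrict
    ⟨fun a b hab => (algebraMap k K).injective (congrArg Subtype.val hab), (algebraMap k K).rangeRestrict_surjective⟩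
  let φ₀ : P.left.residueField x →+* k := e.symm.toRingHom.comp (φ.hom.codRestrict _ hr)
  have hφ₀ : ∀ a, algebraMap k K (φ₀ a) = φ.hom a := fun a =>
    congrArg Subtype.val (e.apply_symm_apply ⟨φ.hom a, hr a⟩)
  have hw : (Spec.map (CommRingCat.ofHom φ₀) ≫ P.left.fromSpecResidueField x) ≫ P.hom = 𝟙 _ := by
    rw [Category.assoc, WeilLib.fromSpecResidueField_comp, ← Spec.map_comp, ← Spec.map_id]
    congr 1
    ext c
    apply (algebraMap k K).injective
    exact (hφ₀ _).trans (RingHom.congr_fun hb c)
  refine ⟨Over.homMk (Spec.map (CommRingCat.ofHom φ₀) ≫ P.left.fromSpecResidueField x) hw, ?_⟩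
  · refine Over.OverMorphism.ext ?_
    show (toPt k).left ≫ Spec.map (CommRingCat.ofHom φ₀) ≫ P.left.fromSpecResidueField x = y.left
    rw [show (toPt k).left = Spec.map (CommRingCat.ofHom (algebraMap k K)) from
      (Category.comp_id _).symm.trans (Over.w (toPt k)), hy, ← Category.assoc, ← Spec.map_comp]
    congr 2
    ext a
    exact hφ₀ a

/-- The rational points of a scheme of finite type over a finite field form a finite set. -/
theorem finite_ratPts (X : Over (Spec (CommRingCat.of k))) [LocallyOfFiniteType X.hom] [QuasiCompact X.hom] :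
    Finite (T₀ ⟶ X) := by
  haveI := Fintype.ofFinite k
  haveI := ZetaLib.finite_sigma_pointsOver X.hom (K := AlgebraicClosure k) Nat.one_pos
  let s : (T₀ ⟶ X) → Σ x : X.left, X.left.residueField x ⟶ CommRingCat.of k := fun x =>
    Scheme.SpecToEquivOfField k X.left x.left
  have hs : ∀ x, (s x).2.hom.comp (VarDim.resHom X.hom (s x).1) = RingHom.id k := fun x => by
    have h1 := Over.w x
    rw [← (Scheme.SpecToEquivOfField k X.left).symm_apply_apply x.left] at h1
    change (Spec.map (s x).2 ≫ X.left.fromSpecResidueField (s x).1) ≫ X.hom = 𝟙 _ at h1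
    rw [Category.assoc, WeilLib.fromSpecResidueField_comp, ← Spec.map_comp, ← Spec.map_id] at h1
    exact congrArg CommRingCat.Hom.hom (Spec.map_injective h1)
  refine Finite.of_injective (β := Σ x : X.left, WeilLib.PointsOver X.hom (k := AlgebraicClosure k) x 1)
    (fun x => ⟨(s x).1, (algebraMap k (AlgebraicClosure k)).comp (s x).2.hom,
      by rw [RingHom.comp_assoc, hs, RingHom.comp_id],
      fun a => by
        show algebraMap k (AlgebraicClosure k) ((s x).2.hom a) ^ _ = _
        rw [← map_pow, pow_one, Nat.card_eq_fintype_card, FiniteField.pow_card]; rfl⟩) fun x x' h => ?_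
  refine Over.OverMorphism.ext ((Scheme.SpecToEquivOfField k X.left).injective ?_)
  show s x = s x'
  have key : ∀ (a b : Σ z : X.left, X.left.residueField z ⟶ CommRingCat.of k),
      (⟨a.1, (algebraMap k (AlgebraicClosure k)).comp a.2.hom⟩ : Σ z : X.left, (X.left.residueField z →+* AlgebraicClosure k)) =
        ⟨b.1, (algebraMap k (AlgebraicClosure k)).comp b.2.hom⟩ → a = b := by
    rintro ⟨a₁, a₂⟩ ⟨b₁, b₂⟩ hab
    obtain ⟨h₁, h₂⟩ := Sigma.mk.inj hab
    change a₁ = b₁ at h₁
    subst h₁
    congr 1
    exact CommRingCat.hom_ext (RingHom.ext fun c => (algebraMap k (AlgebraicClosure k)).injective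
      (RingHom.congr_fun (eq_of_heq h₂) c))
  exact key _ _ (congrArg (fun t : Σ z : X.left, WeilLib.PointsOver X.hom (k := AlgebraicClosure k) z 1 =>
    (⟨t.1, t.2.1⟩ : Σ z : X.left, (X.left.residueField z →+* AlgebraicClosure k))) h)

variable (G : Over (Spec (CommRingCat.of k))) [GrpObj G] [Smooth G.hom] [IsAffineHom G.hom] [ConnectedSpace G.left]

/-- Lang: every geometric point is a Frobenius coboundary. -/
theorem exists_coboundary (g : Tb ⟶ G) (σ : AlgebraicClosure k ≃ₐ[k] AlgebraicClosure k)
    (F : G ⟶ G) (hF : WeilLib.IsPowMap F.left (Nat.card k)) (hσF : ∀ h : Tb ⟶ G, SGA7.specAut σ ≫ h = h ≫ F) :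
    ∃ h : Tb ⟶ G, (SGA7.specAut σ ≫ h)⁻¹ * h = g := by
  haveI : IsAffine G.left := isAffine_of_isAffineHom G.hom
  let L : G ⟶ G := 𝟙 G * F⁻¹
  haveI : Surjective L.left := Groth.Agent.S3934.result k G F fun s => by
    rw [← hF.app ⊤ (hF.le ⊤) s, Scheme.Hom.appTop, Scheme.Hom.app_eq_appLE]
    rfl
  haveI : LocallyOfFiniteType L.left := by
    haveI : LocallyOfFiniteType (L.left ≫ G.hom) := by rw [Over.w L]; infer_instance
    exact locallyOfFiniteType_of_comp L.left G.hom
  obtain ⟨h', hh'⟩ := H23.QCCrit.exists_geomPoint_lift L.left (AlgebraicClosure k) (g⁻¹).left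
  let h : Tb ⟶ G := Over.homMk h' (by rw [← Over.w L, ← Category.assoc, hh']; exact Over.w g⁻¹)
  have hL : h ≫ L = g⁻¹ := Over.OverMorphism.ext hh'
  refine ⟨h⁻¹, ?_⟩
  rw [show L = 𝟙 G * F⁻¹ from rfl, MonObj.comp_mul, Category.comp_id, GrpObj.comp_inv, ← hσF] at hL
  rw [GrpObj.comp_inv, _root_.inv_inv, ← _root_.inv_inv g, ← hL, _root_.mul_inv_rev, _root_.inv_inv]

end Groth.Agent.StCntLib
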